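import Cfsg.Agent.Lib.M24Geom.Conj
import Cfsg.Agent.Lib.M24Invol.CentralCert

/-!
The centraliser of a central involution of the code's group acts on the five-dimensional space of
code words outside its fixed octad as the centraliser of a transvection.
-/

set_option autoImplicit false

namespace Cfsg.Agent.Lib.M24Invol

open Cfsg Equiv Cfsg.Agent.Lib.Compute Cfsg.Agent.Lib.M24Geom
open scoped Pointwise

/-- The involution. -/
def zP : ℕ := 0x170011000a000f00060000001600100014000e0005000c000200150007000800090013000d00040003000b00010012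

/-- The fixed points of the involution. -/
def zFix : ℕ := 0x81511a

/-- A basis of the code words vanishing on the fixed points. -/
def wBase : List ℕ := [0x7eaee5, 0x2ae41, 0x240e85, 0x6a0c44, 0x3886c0]

/-- Point sets giving the coordinates for the basis. -/
def rBase : List ℕ := [0x20, 0x40001, 0x2001, 0x801, 0x201]

/-- The parity of the overlap of two words. -/
def par (a b : ℕ) : Bool := decide (((List.range 24).countP fun i => a.testBit i && b.testBit i) % 2 = 1)

/-- The combination of the basis read off from the point sets. -/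
def expand (m : ℕ) : ℕ :=
  ((List.range 5).map fun k => bif par (rBase.getD k 0) m then wBase.getD k 0 else 0).foldr (· ^^^ ·) 0

theorem zP_ok : elemOk 2 zP = true := by decide +kernel

theorem zCert_ok : chk 24 zCert = true ∧ presGens zCert = true ∧ certOrder zCert = 21504 ∧
    (zCert0.gens.all fun g => (List.range 24).all fun i => app g.1 (app zP i) == app zP (app g.1 i)) = true := by
  decide +kernel

theorem inside_facts :
    (codeList.all fun m => !(m &&& (0xffffff ^^^ zFix) == 0) || (m == 0) || (m == zFix)) = true ∧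
    (codeList.all fun m => !(pop (m &&& zFix) == 2) || pop ((zFix ^^^ m) &&& zFix) == 6) = true := by
  decide +kernel

theorem word_facts :
    ((List.range 24).all fun i => zFix.testBit i == (app zP i == i)) = true ∧
    ((List.range 5).all fun k => inCode (wBase.getD k 0) && ((wBase.getD k 0) &&& zFix == 0)) = true ∧
    (codeList.all fun m => !(m &&& zFix == 0) || (m == expand m)) = true ∧
    ((List.range 5).all fun i => (List.range 5).all fun j =>
      par (rBase.getD i 0) (wBase.getD j 0) == (i == j)) = true ∧
    ((List.range 5).all fun j => (List.range 24).all fun i =>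
      (wBase.getD j 0).testBit (app zP i) ==
        ((wBase.getD j 0).testBit i ^^ (j == 1 && (wBase.getD 0 0).testBit i))) = true := by
  decide +kernel

theorem separation_facts :
    ((List.range 24).all fun a => (List.range 24).all fun b =>
      a == b || zFix.testBit a || zFix.testBit b ||
        (List.range 5).any fun j => (wBase.getD j 0).testBit a != (wBase.getD j 0).testBit b) = true ∧
    ((List.range 24).all fun a => (List.range 24).all fun b =>
      a == b || !zFix.testBit a || !zFix.testBit b ||
        codeList.any fun m => m.testBit a && !m.testBit b &&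
          (pop (m &&& zFix) == 2)) = true := by
  decide +kernel

/-- The involution in the group. -/
noncomputable def zInv : ↥M24 := ⟨gperm zP, (elemOk_spec (by norm_num) zP_ok).2.1⟩

theorem zInv_apply (q : GolayPt) : ((enc ((zInv : Perm GolayPt) q) : Fin 24) : ℕ) = app zP (enc q) :=
  gperm_apply (elemOk_spec (by norm_num) zP_ok).1 q

theorem fix_iff (q : GolayPt) : (zInv : Perm GolayPt) q = q ↔ zFix.testBit (enc q) = true := by
  have h := word_facts.1
  simp only [List.all_eq_true, List.mem_range, beq_iff_eq] at h
  rw [h _ (enc q).isLt, beq_iff_eq]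
  constructor
  · intro e; rw [← zInv_apply, e]
  · intro e; exact enc.injective (Fin.ext ((zInv_apply q).trans e))

theorem orderOf_zInv : orderOf zInv = 2 := by
  refine orderOf_eq_prime (Subtype.ext ?_) fun h => ?_
  · show gperm zP ^ 2 = 1
    exact (elemOk_spec (by norm_num) zP_ok).2.2
  · have := (fix_iff (enc.symm 0)).mp (by rw [h]; rfl)
    rw [Equiv.apply_symm_apply] at this
    revert this
    decide +kernel

/-- The centraliser. -/
noncomputable def zCent : Subgroup ↥M24 := Subgroup.centralizer {zInv}

theorem le_card_zCent : 21504 ≤ Nat.card zCent := by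
  obtain ⟨hc, hp, ho, hcom⟩ := zCert_ok
  have hz := (elemOk_spec (by norm_num) zP_ok).1
  have hle : grp 24 zCert ≤ K24 ⊓ Subgroup.centralizer {toPerm 24 zP} := by
    refine le_inf (grp_le_K24 hp) ?_
    have hlv : lvlOk 24 zCert0 [zCert1, zCert2, zCert3, zCert4] = true := by
      have h := hc
      simp only [zCert, chk, Bool.and_eq_true] at h
      exact h.1
    show Subgroup.closure _ ≤ _
    rw [Subgroup.closure_le]
    rintro _ ⟨g, hg, rfl⟩
    obtain ⟨-, hgo, -⟩ := lvlOk_iff hlv
    have hgr := repr_toPerm_of_genOk (hgo g hg)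
    refine Subgroup.mem_centralizer_singleton_iff.mpr ((hgr.mul hz.repr).eq (hz.repr.mul hgr) fun i hi => ?_)
    have := List.all_eq_true.mp (List.all_eq_true.mp hcom g hg) i (List.mem_range.mpr hi)
    simpa using this
  rw [← ho, ← card_grp hc]
  refine Nat.card_le_card_of_injective
    (fun σ => ⟨⟨toGP σ.1, (hle σ.2).1⟩, Subgroup.mem_centralizer_singleton_iff.mpr (Subtype.ext ?_)⟩)
    fun σ τ e => Subtype.ext (toGP.injective (congrArg (fun x : ↥zCent => (x.1 : Perm GolayPt)) e))
  have := congrArg toGP (Subgroup.mem_centralizer_singleton_iff.mp (hle σ.2).2)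
  rw [map_mul, map_mul] at this
  exact this

theorem cent_comm (g : ↥zCent) (q : GolayPt) :
    (g.1 : Perm GolayPt) ((zInv : Perm GolayPt) q) = (zInv : Perm GolayPt) ((g.1 : Perm GolayPt) q) :=
  Equiv.congr_fun (congrArg Subtype.val (Subgroup.mem_centralizer_singleton_iff.mp g.2)) q

theorem cent_fix (g : ↥zCent) (q : GolayPt) :
    zFix.testBit (enc ((g.1 : Perm GolayPt) q)) = zFix.testBit (enc q) := by
  rw [Bool.eq_iff_iff, ← fix_iff, ← fix_iff, ← cent_comm]
  exact (g.1 : Perm GolayPt).injective.eq_iff

/-- Code words are closed under sums. -/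
theorem xor_mem_code {a b : ℕ} (ha : a ∈ codeList) (hb : b ∈ codeList) : a ^^^ b ∈ codeList := by
  obtain ⟨m, hm, he⟩ := mem_golayCode_iff.mp
    (add_mem (mem_golayCode_iff.mpr ⟨a, ha, rfl⟩) (mem_golayCode_iff.mpr ⟨b, hb, rfl⟩))
  rw [← wordOf_xor] at he
  have he' := congrArg support₂ he
  rw [support₂_wordOf, support₂_wordOf] at he'
  rwa [setOf24_injOn (Nat.xor_lt_two_pow (lt_of_mem_codeList ha) (lt_of_mem_codeList hb)) (lt_of_mem_codeList hm) he']

/-- The image of a code word is a code word. -/
theorem exists_image (g : ↥M24) {m : ℕ} (hm : m ∈ codeList) : ∃ m' ∈ codeList, ∀ q : GolayPt,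
    m'.testBit (enc ((g : Perm GolayPt) q)) = m.testBit (enc q) := by
  have hs : setOf24 m ∈ supports (golayCode : Set (GolayPt → ZMod 2)) := by
    rw [supports_golayCode]; exact ⟨m, hm, rfl⟩
  have := Set.smul_mem_smul_set (a := (g : Perm GolayPt)) hs
  rw [show (g : Perm GolayPt) • supports (golayCode : Set (GolayPt → ZMod 2)) = _ from
    MulAction.mem_stabilizer_iff.mp g.2, supports_golayCode] at this
  obtain ⟨m', hm', he⟩ := this
  refine ⟨m', hm', fun q => ?_⟩
  rw [Bool.eq_iff_iff, ← mem_setOf24, ← mem_setOf24, he]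
  exact Finset.smul_mem_smul_finset_iff _

/-- Membership as a scalar. -/
def bit (m i : ℕ) : ZMod 2 := if m.testBit i then 1 else 0

theorem bit_xor (a b i : ℕ) : bit (a ^^^ b) i = bit a i + bit b i := by
  simp only [bit, Nat.testBit_xor]
  cases a.testBit i <;> cases b.testBit i <;> decide

theorem bit_inj {a b i j : ℕ} : bit a i = bit b j ↔ a.testBit i = b.testBit j := by
  simp only [bit]
  cases a.testBit i <;> cases b.testBit j <;> decide

/-- A coordinate of a vector on the points. -/
def coef (k : Fin 5) (u : GolayPt → ZMod 2) : ZMod 2 :=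
  ∑ q, bit (rBase.getD k 0) (enc q) * u q

theorem coef_word (k : Fin 5) (m : ℕ) :
    coef k (fun q => bit m (enc q)) = if par (rBase.getD k 0) m then 1 else 0 := by
  have h1 : ∀ i : ℕ, bit (rBase.getD k 0) i * bit m i
      = if (rBase.getD k 0).testBit i ∧ m.testBit i then 1 else 0 := fun i => by
    simp only [bit]
    cases (rBase.getD k 0).testBit i <;> cases m.testBit i <;> simp
  have h2 : coef k (fun q => bit m (enc q))
      = (((List.range 24).countP fun i => (rBase.getD k 0).testBit i && m.testBit i : ℕ) : ZMod 2) := by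
    rw [coef, Equiv.sum_comp enc (fun i : Fin 24 => bit (rBase.getD k 0) i * bit m i),
      ← Finset.sum_range fun i => bit (rBase.getD k 0) i * bit m i]
    simp only [h1, Finset.sum_boole]
    congr 1
    rw [List.countP_eq_length_filter, ← List.toFinset_card_of_nodup (List.nodup_range.filter _)]
    congr 1
    ext i
    simp
  rw [h2, par]
  generalize ((List.range 24).countP fun i => (rBase.getD k 0).testBit i && m.testBit i) = c
  rcases Nat.mod_two_eq_zero_or_one c with h | h
  · rw [show (c : ZMod 2) = 0 from (ZMod.natCast_eq_zero_iff_even).mpr (Nat.even_iff.mpr h)]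
    simp [h]
  · rw [show (c : ZMod 2) = 1 from (ZMod.natCast_eq_one_iff_odd).mpr (Nat.odd_iff.mpr h)]
    simp [h]

theorem word_expand {m : ℕ} (hm : m ∈ codeList) (h0 : m &&& zFix = 0) (i : ℕ) :
    bit m i = ∑ k : Fin 5, (if par (rBase.getD k 0) m then 1 else 0) * bit (wBase.getD k 0) i := by
  have h := List.all_eq_true.mp word_facts.2.2.1 m hm
  simp only [Bool.or_eq_true, Bool.not_eq_true', beq_eq_false_iff_ne, beq_iff_eq, ne_eq] at h
  have he : m = expand m := h.resolve_left (fun hh => hh h0)
  have hl : ∀ (l : List ℕ) (f : ℕ → ℕ), bit ((l.map f).foldr (· ^^^ ·) 0) i = (l.map fun k => bit (f k) i).sum := by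
    intro l f
    induction l with
    | nil => simp [bit]
    | cons a l ih => simp [bit_xor, ih]
  conv_lhs => rw [he, expand, hl]
  rw [Fin.sum_univ_five]
  simp only [List.range_succ, List.range_zero, List.map_cons, List.map_nil, List.nil_append, List.cons_append,
    List.sum_cons, List.sum_nil, add_zero, Fin.val_zero, Fin.val_one, Fin.val_two]
  have hb : ∀ (c : Bool) (x : ℕ), bit (bif c then x else 0) i = (if c then 1 else 0) * bit x i := fun c x => by
    cases c <;> simp [bit]
  simp only [hb]
  show _ = _ + (if par (rBase.getD 3 0) m then 1 else 0) * bit (wBase.getD 3 0) i +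
    (if par (rBase.getD 4 0) m then 1 else 0) * bit (wBase.getD 4 0) i
  ring

/-- The matrix of an element on the code words outside the octad. -/
def wordMat (g : ↥M24) : Matrix (Fin 5) (Fin 5) (ZMod 2) :=
  fun i j => coef i fun q => bit (wBase.getD j 0) (enc (((g⁻¹ : ↥M24) : Perm GolayPt) q))

theorem wordMat_mul (g h : ↥zCent) :
    wordMat ((g * h : ↥zCent) : ↥M24) = wordMat (g : ↥M24) * wordMat (h : ↥M24) := by
  refine Matrix.ext fun i j => ?_
  have hj : (wBase.getD j 0) ∈ codeList ∧ wBase.getD j 0 &&& zFix = 0 := by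
    have := List.all_eq_true.mp word_facts.2.1 j (List.mem_range.mpr j.isLt)
    simp only [Bool.and_eq_true, beq_iff_eq] at this
    exact ⟨mem_codeList_of_inCode this.1, this.2⟩
  obtain ⟨m, hm, himg⟩ := exists_image (h : ↥M24) hj.1
  have hm0 : m &&& zFix = 0 := by
    refine Nat.eq_of_testBit_eq fun i => ?_
    rw [Nat.testBit_and, Nat.zero_testBit]
    by_cases hi : i < 24
    · obtain ⟨q, hq⟩ : ∃ q, ((enc ((((h : ↥M24) : Perm GolayPt) q)) : Fin 24) : ℕ) = i :=
        ⟨((h : ↥M24) : Perm GolayPt).symm (enc.symm ⟨i, hi⟩), by simp⟩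
      rw [← hq, himg, cent_fix]
      have := congrArg (fun t => t.testBit (enc q : ℕ)) hj.2
      simpa only [Nat.testBit_and, Nat.zero_testBit] using this
    · have : m.testBit i = false :=
        Nat.testBit_eq_false_of_lt (lt_of_lt_of_le (lt_of_mem_codeList hm) (Nat.pow_le_pow_right (by norm_num) (by omega)))
      simp [this]
  have hh : ∀ q, bit (wBase.getD j 0) (enc ((((h : ↥M24)⁻¹ : ↥M24) : Perm GolayPt) q)) = bit m (enc q) := fun q => by
    rw [bit_inj, ← himg]
    simp
  have hk : ∀ k : Fin 5, wordMat (h : ↥M24) k j = if par (rBase.getD k 0) m then 1 else 0 := fun k => by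
    rw [wordMat, funext hh, coef_word]
  rw [Matrix.mul_apply, wordMat]
  simp only [hk]
  have e : ∀ q, bit (wBase.getD j 0) (enc (((((g * h : ↥zCent) : ↥M24)⁻¹ : ↥M24) : Perm GolayPt) q))
      = bit m (enc ((((g : ↥M24)⁻¹ : ↥M24) : Perm GolayPt) q)) := fun q => by
    rw [← hh]
    simp
  simp only [e, coef, wordMat, word_expand hm hm0, Finset.mul_sum, Finset.sum_mul]
  rw [Finset.sum_comm]
  exact Finset.sum_congr rfl fun q _ => Finset.sum_congr rfl fun k _ => by ring

theorem wordMat_one : wordMat 1 = 1 := by
  refine Matrix.ext fun i j => ?_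
  have h := List.all_eq_true.mp (List.all_eq_true.mp word_facts.2.2.2.1 i (List.mem_range.mpr i.isLt)) j
    (List.mem_range.mpr j.isLt)
  rw [beq_iff_eq] at h
  simp only [wordMat, inv_one, OneMemClass.coe_one, Perm.one_apply, coef_word, h, beq_iff_eq]
  simp [Matrix.one_apply, Fin.ext_iff]

theorem eq_one_of_wordMat (g : ↥zCent) (h : wordMat (g : ↥M24) = 1) : g = 1 := by
  set π := ((g : ↥M24) : Perm GolayPt) with hπ
  have hpres : ∀ j : Fin 5, ∀ q, (wBase.getD j 0).testBit (enc (π q)) = (wBase.getD j 0).testBit (enc q) := by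
    intro j q
    have hjj := List.all_eq_true.mp word_facts.2.1 j (List.mem_range.mpr j.isLt)
    simp only [Bool.and_eq_true, beq_iff_eq] at hjj
    obtain ⟨m, hm, himg⟩ := exists_image (g : ↥M24) (mem_codeList_of_inCode hjj.1)
    have hm0 : m &&& zFix = 0 := by
      refine Nat.eq_of_testBit_eq fun i => ?_
      rw [Nat.testBit_and, Nat.zero_testBit]
      by_cases hi : i < 24
      · obtain ⟨p, hp⟩ : ∃ p, ((enc (π p) : Fin 24) : ℕ) = i :=
          ⟨π.symm (enc.symm ⟨i, hi⟩), by simp⟩
        rw [← hp, himg, cent_fix]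
        have := congrArg (fun t => t.testBit (enc p : ℕ)) hjj.2
        simpa only [Nat.testBit_and, Nat.zero_testBit] using this
      · have : m.testBit i = false :=
          Nat.testBit_eq_false_of_lt (lt_of_lt_of_le (lt_of_mem_codeList hm) (Nat.pow_le_pow_right (by norm_num) (by omega)))
        simp [this]
    have hc : ∀ k : Fin 5, (if par (rBase.getD k 0) m then (1 : ZMod 2) else 0) = if k = j then 1 else 0 := fun k => by
      have hh : ∀ p, bit (wBase.getD j 0) (enc ((((g : ↥M24)⁻¹ : ↥M24) : Perm GolayPt) p)) = bit m (enc p) := fun p => by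
        rw [bit_inj, ← himg]
        simp
      have e := congrFun (congrFun h k) j
      rw [wordMat, funext hh, coef_word, Matrix.one_apply] at e
      exact e
    have := word_expand hm hm0 (enc (π q))
    simp only [hc, ite_mul, one_mul, zero_mul, Finset.sum_ite_eq', Finset.mem_univ, if_true] at this
    rw [← bit_inj.mp this]
    exact himg q
  have hout : ∀ q, zFix.testBit (enc q) = false → π q = q := by
    intro q hq
    by_contra hne
    have h1 := List.all_eq_true.mp (List.all_eq_true.mp separation_facts.1 (enc (π q)) (List.mem_range.mpr (enc _).isLt))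
      (enc q) (List.mem_range.mpr (enc _).isLt)
    simp only [Bool.or_eq_true, beq_iff_eq, List.any_eq_true, List.mem_range, bne_iff_ne, hπ, cent_fix, hq,
      Bool.false_eq_true, or_false] at h1
    rcases h1 with e | ⟨j, hj, e⟩
    · exact hne (enc.injective (Fin.ext e))
    · exact e (hpres ⟨j, hj⟩ q)
  refine Subtype.ext (Subtype.ext (Equiv.ext fun q => ?_))
  show π q = q
  by_cases hq : zFix.testBit (enc q) = false
  · exact hout q hq
  simp only [Bool.not_eq_false] at hq
  by_contra hne
  have h1 := List.all_eq_true.mp (List.all_eq_true.mp separation_facts.2 (enc q) (List.mem_range.mpr (enc _).isLt))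
    (enc (π q)) (List.mem_range.mpr (enc _).isLt)
  simp only [Bool.or_eq_true, beq_iff_eq, List.any_eq_true, Bool.and_eq_true, Bool.not_eq_true', decide_eq_true_eq,
    hπ, cent_fix, hq, Bool.true_eq_false, or_false] at h1
  rcases h1 with e | ⟨m, hm, ⟨hma, hmb⟩, hcnt⟩
  · exact hne (enc.injective (Fin.ext e.symm))
  obtain ⟨m', hm', himg⟩ := exists_image (g : ↥M24) hm
  have himg' : ∀ p, m'.testBit (enc (π p)) = m.testBit (enc p) := himg
  have hzero : (m' ^^^ m) &&& (0xffffff ^^^ zFix) = 0 := by
    refine Nat.eq_of_testBit_eq fun i => ?_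
    rw [Nat.testBit_and, Nat.zero_testBit]
    by_cases hi : i < 24
    · obtain ⟨p, hp⟩ : ∃ p, ((enc p : Fin 24) : ℕ) = i := ⟨enc.symm ⟨i, hi⟩, by simp⟩
      subst hp
      cases hz : zFix.testBit (enc p)
      · have h2 := himg' p
        rw [hout p hz] at h2
        simp [Nat.testBit_xor, h2]
      · simp only [show (0xffffff : ℕ) = 2 ^ 24 - 1 by norm_num, Nat.testBit_xor, Nat.testBit_two_pow_sub_one, hz]
        simp [(enc p).isLt]
    · have : (m' ^^^ m).testBit i = false :=
        Nat.testBit_eq_false_of_lt (lt_of_lt_of_le (Nat.xor_lt_two_pow (lt_of_mem_codeList hm') (lt_of_mem_codeList hm))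
          (Nat.pow_le_pow_right (by norm_num) (by omega)))
      simp [this]
  have hx := List.all_eq_true.mp inside_facts.1 _ (xor_mem_code hm' hm)
  simp only [Bool.or_eq_true, Bool.not_eq_true', beq_eq_false_iff_ne, beq_iff_eq, ne_eq] at hx
  have hfull : m' = zFix ^^^ m := by
    rcases hx with (hx | hx) | hx
    · exact absurd hzero hx
    · exfalso
      have := congrArg (fun t => t.testBit (enc (π q) : ℕ)) hx
      simp only [Nat.testBit_xor, Nat.zero_testBit, himg', hma] at this
      rw [hmb] at this
      exact absurd this (by decide)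
    · rw [← hx, Nat.xor_assoc, Nat.xor_self, Nat.xor_zero]
  have hcount : pop (m' &&& zFix) = 2 := by
    rw [← hcnt, ← card_setOf24, ← card_setOf24]
    refine Finset.card_equiv π.symm fun p => ?_
    simp only [mem_setOf24, Nat.testBit_and]
    obtain ⟨p, rfl⟩ := π.surjective p
    rw [Equiv.symm_apply_apply, himg', hπ, cent_fix]
  have h8 := List.all_eq_true.mp inside_facts.2 m hm
  simp only [Bool.or_eq_true, Bool.not_eq_true', beq_eq_false_iff_ne, beq_iff_eq, ne_eq] at h8
  have := h8.resolve_left (fun h => h hcnt)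
  rw [← hfull] at this
  omega

end Cfsg.Agent.Lib.M24Invol
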