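import Cfsg.Agent.Lib.M24Invol.CentralInvolution

/-!
# The centraliser of a central involution is the centraliser of a transvection
-/

set_option autoImplicit false

namespace Cfsg.Agent.Lib.M24Invol

open Cfsg Equiv Matrix Cfsg.Agent.Lib.Compute Cfsg.Agent.Lib.M24Geom

/-- The transvection. -/
local notation "T5" => (Matrix.transvection (0 : Fin 5) 1 (1 : ZMod 2))

theorem zInv_mem : zInv ∈ zCent := Subgroup.mem_centralizer_singleton_iff.mpr rfl

theorem wordMat_zInv : wordMat zInv = T5 := by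
  refine Matrix.ext fun i j => ?_
  have hinv : (zInv⁻¹ : ↥M24) = zInv := by
    rw [inv_eq_iff_mul_eq_one, ← sq, ← orderOf_zInv, pow_orderOf_eq_one]
  have hp : ∀ q, bit (wBase.getD j 0) (app zP (enc q)) =
      bit (wBase.getD j 0) (enc q) + (if j = 1 then 1 else 0) * bit (wBase.getD 0 0) (enc q) := fun q => by
    have h := List.all_eq_true.mp (List.all_eq_true.mp word_facts.2.2.2.2 j (List.mem_range.mpr j.isLt))
      (enc q) (List.mem_range.mpr (enc q).isLt)
    rw [beq_iff_eq] at h
    simp only [bit, h]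
    rcases eq_or_ne j 1 with rfl | hj
    · cases (wBase.getD (1 : Fin 5) 0).testBit (enc q) <;> cases (wBase.getD 0 0).testBit (enc q) <;> simp <;> decide
    · simp [hj, Fin.val_inj, show ((j : ℕ) == 1) = false from beq_eq_false_iff_ne.mpr fun e => hj (Fin.ext e)]
  have hd : ∀ k l : Fin 5, coef k (fun q => bit (wBase.getD l 0) (enc q)) = if k = l then 1 else 0 := fun k l => by
    have h := List.all_eq_true.mp (List.all_eq_true.mp word_facts.2.2.2.1 k (List.mem_range.mpr k.isLt)) l
      (List.mem_range.mpr l.isLt)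
    rw [beq_iff_eq] at h
    rw [coef_word, h]
    simp [Fin.ext_iff]
  simp only [wordMat, hinv, zInv_apply, coef, hp, mul_add, Finset.sum_add_distrib]
  have h0 := hd i 0
  have hj := hd i j
  simp only [coef, Fin.val_zero] at h0 hj
  rw [hj]
  simp only [← mul_assoc, mul_comm _ (if j = 1 then (1 : ZMod 2) else 0)]
  simp only [mul_assoc, ← Finset.mul_sum, h0]
  have key : ∀ a b : Fin 5, ((if a = b then (1 : ZMod 2) else 0) + (if b = 1 then 1 else 0) * if a = 0 then 1 else 0) =
      (1 : Matrix (Fin 5) (Fin 5) (ZMod 2)) a b + if 0 = a ∧ 1 = b then 1 else 0 := by decide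
  rw [key, transvection, Matrix.add_apply, Matrix.single_apply]

attribute [local irreducible] wordMat

theorem wordMat_det (g : ↥zCent) : (wordMat (g : ↥M24)).det = 1 := by
  have h : wordMat (g : ↥M24) * wordMat ((g⁻¹ : ↥zCent) : ↥M24) = 1 := by
    rw [← wordMat_mul, mul_inv_cancel, OneMemClass.coe_one, wordMat_one]
  have h' := congrArg Matrix.det h
  rw [det_mul, det_one] at h'
  exact (zmod2_cases _).resolve_left fun e => by simp [e] at h'

/-- The representation. -/
noncomputable def zRep : ↥zCent →* SpecialLinearGroup (Fin 5) (ZMod 2) where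
  toFun g := ⟨wordMat (g : ↥M24), wordMat_det g⟩
  map_one' := Subtype.ext wordMat_one
  map_mul' g h := Subtype.ext (wordMat_mul g h)

theorem zRep_injective : Function.Injective zRep := by
  rw [injective_iff_map_eq_one]
  exact fun g hg => eq_one_of_wordMat g
    ((congrArg (fun m : SpecialLinearGroup (Fin 5) (ZMod 2) => (m : Matrix (Fin 5) (Fin 5) (ZMod 2))) hg).trans
      Matrix.SpecialLinearGroup.coe_one)

variable {s : SpecialLinearGroup (Fin 5) (ZMod 2)}

theorem zRep_mem (hs : (s : Matrix (Fin 5) (Fin 5) (ZMod 2)) = T5) (g : ↥zCent) :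
    zRep g ∈ Subgroup.centralizer {s} := by
  have e : zRep ⟨zInv, zInv_mem⟩ = s := Subtype.ext (wordMat_zInv.trans hs.symm)
  rw [Subgroup.mem_centralizer_singleton_iff, ← e, ← map_mul, ← map_mul]
  exact congrArg zRep (Subtype.ext (Subgroup.mem_centralizer_singleton_iff.mp g.2))

/-- The matrix of a member of a subgroup. -/
def mat {H : Subgroup (SpecialLinearGroup (Fin 5) (ZMod 2))} (x : ↥H) : Matrix (Fin 5) (Fin 5) (ZMod 2) :=
  ((x : SpecialLinearGroup (Fin 5) (ZMod 2)) : Matrix (Fin 5) (Fin 5) (ZMod 2))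

theorem cent_shape (hs : (s : Matrix (Fin 5) (Fin 5) (ZMod 2)) = T5)
    (x : ↥(Subgroup.centralizer ({s} : Set (SpecialLinearGroup (Fin 5) (ZMod 2))))) :
    (∀ i, i ≠ 0 → (mat x) i 0 = 0) ∧ (∀ j, j ≠ 1 → (mat x) 1 j = 0) ∧ (mat x) 0 0 = 1 ∧ (mat x) 1 1 = 1 := by
  have he : ∀ i j, ((mat x) * T5) i j = (T5 * (mat x)) i j := fun i j => by
    rw [← hs]
    exact congrArg (fun m : SpecialLinearGroup (Fin 5) (ZMod 2) => (m : Matrix (Fin 5) (Fin 5) (ZMod 2)) i j)
      (Subgroup.mem_centralizer_singleton_iff.mp x.2)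
  have hc : ∀ i, i ≠ 0 → (mat x) i 0 = 0 := fun i hi => by
    have := he i 1
    simpa [transvection_mul_apply_of_ne, hi] using this
  have hr : ∀ j, j ≠ 1 → (mat x) 1 j = 0 := fun j hj => by
    have := he 0 j
    simpa [mul_transvection_apply_of_ne, hj] using this.symm
  have h00 : (mat x) 0 0 = 1 := by
    refine (zmod2_cases _).resolve_left fun e => ?_
    have : (mat x).det = 0 := det_eq_zero_of_column_eq_zero 0 fun i => by
      rcases eq_or_ne i 0 with rfl | hi
      · exact e
      · exact hc i hi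
    rw [mat, Matrix.SpecialLinearGroup.det_coe] at this
    exact one_ne_zero this
  refine ⟨hc, hr, h00, ?_⟩
  have := he 0 1
  simp at this
  rw [← this, h00]

/-- The lower corner. -/
def corner (M : Matrix (Fin 5) (Fin 5) (ZMod 2)) : Matrix (Fin 3) (Fin 3) (ZMod 2) :=
  fun i j => M i.succ.succ j.succ.succ

theorem corner_mul (hs : (s : Matrix (Fin 5) (Fin 5) (ZMod 2)) = T5)
    (x y : ↥(Subgroup.centralizer ({s} : Set (SpecialLinearGroup (Fin 5) (ZMod 2))))) :
    corner (mat (x * y)) = corner (mat x) * corner (mat y) := by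
  refine Matrix.ext fun i j => ?_
  have hm : mat (x * y) = mat x * mat y := Matrix.SpecialLinearGroup.coe_mul _ _
  simp only [corner, hm, Matrix.mul_apply, Fin.sum_univ_succ (n := 4),
    Fin.sum_univ_succ (n := 3)]
  rw [(cent_shape hs x).1 _ (Fin.succ_ne_zero _), show (Fin.succ (0 : Fin 4)) = (1 : Fin 5) from rfl,
    (cent_shape hs y).2.1 j.succ.succ (by revert j; decide)]
  simp

theorem card_cent_le (hs : (s : Matrix (Fin 5) (Fin 5) (ZMod 2)) = T5) :
    Nat.card ↥(Subgroup.centralizer ({s} : Set (SpecialLinearGroup (Fin 5) (ZMod 2)))) ≤ 21504 := by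
  have h1 : ∀ x : ↥(Subgroup.centralizer ({s} : Set (SpecialLinearGroup (Fin 5) (ZMod 2)))),
      corner (mat x) * corner (mat x⁻¹) = 1 := fun x => by
    rw [← corner_mul hs, mul_inv_cancel]
    refine Matrix.ext fun i j => ?_
    rw [show mat (1 : ↥(Subgroup.centralizer ({s} : Set (SpecialLinearGroup (Fin 5) (ZMod 2))))) = 1 from Matrix.SpecialLinearGroup.coe_one]
    simp [corner, Matrix.one_apply]
  let F : ↥(Subgroup.centralizer ({s} : Set (SpecialLinearGroup (Fin 5) (ZMod 2)))) →
      (Fin 4 → ZMod 2) × (Fin 3 → ZMod 2) × GL (Fin 3) (ZMod 2) := fun x =>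
    (fun j => (mat x) 0 j.succ, fun i => (mat x) i.succ.succ 1,
      ⟨corner (mat x), corner (mat x⁻¹), h1 x, by simpa using h1 x⁻¹⟩)
  have hF : Function.Injective F := by
    intro x y e
    obtain ⟨e1, e2, e3⟩ : (F x).1 = (F y).1 ∧ (F x).2.1 = (F y).2.1 ∧ (F x).2.2 = (F y).2.2 := by simp [e]
    have e3' : corner (mat x) = corner (mat y) := congrArg Units.val e3
    obtain ⟨a1, a2, a3, a4⟩ := cent_shape hs x
    obtain ⟨b1, b2, b3, b4⟩ := cent_shape hs y
    refine Subtype.ext (Subtype.ext (show mat x = mat y from Matrix.ext fun i j => ?_))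
    rcases Fin.eq_zero_or_eq_succ i with rfl | ⟨i, rfl⟩
    · rcases Fin.eq_zero_or_eq_succ j with rfl | ⟨j, rfl⟩
      · rw [a3, b3]
      · exact congrFun e1 j
    rcases Fin.eq_zero_or_eq_succ j with rfl | ⟨j, rfl⟩
    · rw [a1 _ (Fin.succ_ne_zero _), b1 _ (Fin.succ_ne_zero _)]
    rcases Fin.eq_zero_or_eq_succ i with rfl | ⟨i, rfl⟩
    · rcases Fin.eq_zero_or_eq_succ j with rfl | ⟨j, rfl⟩
      · exact a4.trans b4.symm
      · exact (a2 _ (by revert j; decide)).trans (b2 _ (by revert j; decide)).symm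
    rcases Fin.eq_zero_or_eq_succ j with rfl | ⟨j, rfl⟩
    · exact congrFun e2 i
    · exact congrFun (congrFun e3' i) j
  refine (Nat.card_le_card_of_injective F hF).trans (le_of_eq ?_)
  rw [Nat.card_prod, Nat.card_prod, Nat.card_fun, Nat.card_fun, Matrix.card_GL_field, Nat.card_eq_fintype_card]
  simp [Fin.prod_univ_three, ZMod.card]

theorem central_involution_type (hs : (s : Matrix (Fin 5) (Fin 5) (ZMod 2)) = T5) :
    Nonempty (↥zCent ≃* ↥(Subgroup.centralizer ({s} : Set (SpecialLinearGroup (Fin 5) (ZMod 2))))) := by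
  let f := zRep.codRestrict _ (zRep_mem hs)
  have hf : Function.Injective f := fun a b e => zRep_injective (congrArg Subtype.val e)
  exact ⟨MulEquiv.ofBijective f
    (hf.bijective_of_nat_card_le ((card_cent_le hs).trans le_card_zCent))⟩

end Cfsg.Agent.Lib.M24Invol
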